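import Cfsg.Agent.H37.Tits.Ambient
import Cfsg.Agent.H54.BNCosets

/-!
Split Tits systems in characteristic `p`: the length on the Weyl group, sizes of cells, the longest
element, and the unipotent radicals of the parabolic subgroups.
-/

set_option autoImplicit false
set_option linter.unusedSectionVars false

namespace Cfsg.Agent.H13.Split

open Cfsg.Agent.H28 Cfsg.Agent.H54.BNC
open Cfsg.Agent.H37 (Tits.Ambient Tits.InCell)

variable {G W : Type*} [Group G] [Group W] (A : Tits.Ambient G W) {p : ℕ}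

/-- The elements of `U` moved into `U` by `n w`. -/
def rad (w : W) : Subgroup G := A.U ⊓ A.U.comap (MulAut.conj (A.n w)).toMonoidHom

theorem mem_rad {w : W} {d : G} : d ∈ rad A w ↔ d ∈ A.U ∧ A.n w * d * (A.n w)⁻¹ ∈ A.U := Iff.rfl

/-- The hypotheses on a split Tits system in characteristic `p`. -/
structure Hyp (p : ℕ) : Prop where
  full : ∃ w₀, A.Uw w₀ = A.U
  pU : IsPGroup p A.U
  pH : ¬ p ∣ Nat.card A.H
  nonempty : A.S.Nonempty
  norm : ∀ s ∈ A.S, ∀ u ∈ A.U, ∀ d ∈ rad A s, u * d * u⁻¹ ∈ rad A s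

/-- The cell of `w`. -/
def cell (w : W) : Set G := dc A.pair (A.n w)

/-- The length of `w`. -/
noncomputable def ell (w : W) : ℕ := len A.pair (A.n w)

theorem n_mem (w : W) : A.n w ∈ A.pair.N := A.n_mem_N w

theorem nS_mem {s : W} (hs : s ∈ A.S) : A.n s ∈ A.pair.S := ⟨s, hs, rfl⟩

theorem n_mul_eqv (a b : W) : (A.n (a * b))⁻¹ * (A.n a * A.n b) ∈ A.pair.B := by
  obtain ⟨h, hh, e⟩ := A.n_mul a b
  rw [e, ← mul_assoc]
  exact A.H_le_B (A.n_conj_H' _ hh)

theorem dc_n_mul (a b : W) : dc A.pair (A.n a * A.n b) = cell A (a * b) :=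
  dc_eq_of_equiv (n_mul_eqv A a b)

theorem len_n_mul (a b : W) : len A.pair (A.n a * A.n b) = ell A (a * b) :=
  len_congr (n_mul_eqv A a b)

theorem ell_one : ell A 1 = 0 := by rw [ell, A.n_one]; exact len_one

theorem ell_S {s : W} (hs : s ∈ A.S) : ell A s = 1 := len_S (nS_mem A hs)

theorem eq_one_of_ell {w : W} (h : ell A w = 0) : w = 1 :=
  A.eq_one_of_n_mem_B (mem_B_of_len_eq_zero (n_mem A w) h)

theorem S_ne_one {s : W} (hs : s ∈ A.S) : s ≠ 1 := fun h => by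
  have := ell_S A hs
  rw [h, ell_one] at this
  omega

theorem ell_mul_le (a b : W) : ell A (a * b) ≤ ell A a + ell A b := by
  rw [← len_n_mul]; exact len_mul_le (n_mem A a) (n_mem A b)

theorem ell_cases {s : W} (hs : s ∈ A.S) (w : W) :
    ell A (s * w) = ell A w + 1 ∨ ell A (s * w) + 1 = ell A w := by
  rw [← len_n_mul]; exact len_cases (nS_mem A hs) (n_mem A w)

theorem ell_cases' {s : W} (hs : s ∈ A.S) (w : W) :
    ell A (w * s) = ell A w + 1 ∨ ell A (w * s) + 1 = ell A w := by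
  rw [← len_n_mul]; exact len_cases_right (nS_mem A hs) (n_mem A w)

theorem ell_inv (w : W) : ell A w⁻¹ = ell A w := by
  obtain ⟨h, hh, e⟩ := A.n_inv w
  have h1 : (A.n w⁻¹)⁻¹ * (A.n w)⁻¹ ∈ A.pair.B := by
    rw [e, ← mul_assoc]; exact A.H_le_B (A.n_conj_H' _ hh)
  rw [ell, ← len_congr h1, len_inv (n_mem A w)]
  rfl

theorem exists_left_descent {w : W} (hw : w ≠ 1) : ∃ s ∈ A.S, ell A (s * w) + 1 = ell A w := by
  obtain ⟨L, hL, hl⟩ := exists_red (n_mem A w)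
  match L, hL, hl with
  | [], hL, hl => exact absurd (eq_one_of_ell A hl.symm) hw
  | x :: L, hL, hl =>
    obtain ⟨s, hs, rfl⟩ : x ∈ A.n '' A.S := hL.1 x (by simp)
    refine ⟨s, hs, (ell_cases A hs w).resolve_left fun h => ?_⟩
    have hr : Rep A.pair L ((A.n s)⁻¹ * A.n w) :=
      ⟨fun y hy => hL.1 y (by simp [hy]), by simpa [mul_assoc] using hL.2⟩
    have := len_le hr
    rw [len_mul_S_inv (n_mem A w) (nS_mem A hs), len_n_mul] at this
    have hl' : L.length + 1 = ell A w := by rw [← List.length_cons (a := A.n s)]; exact hl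
    omega

theorem exists_right_descent {w : W} (hw : w ≠ 1) : ∃ s ∈ A.S, ell A (w * s) + 1 = ell A w := by
  obtain ⟨s, hs, e⟩ := exists_left_descent A (w := w⁻¹) (fun h => hw (inv_eq_one.1 h))
  refine ⟨s, hs, ?_⟩
  rwa [← ell_inv A (s * w⁻¹), mul_inv_rev, inv_inv, A.S_inv hs, ell_inv] at e

/-! ### Cells -/

theorem cell_inj {a b : W} {g : G} (ha : g ∈ cell A a) (hb : g ∈ cell A b) : a = b :=
  A.n_inj_B (dc_inj' (n_mem A a) (n_mem A b) ha hb)

theorem n_mem_cell (w : W) : A.n w ∈ cell A w := self_mem_dc _ _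

theorem cell_mul {a b : W} (h : ell A (a * b) = ell A a + ell A b) {x y : G} (hx : x ∈ cell A a)
    (hy : y ∈ cell A b) : x * y ∈ cell A (a * b) := by
  rw [← dc_n_mul]
  exact mul_mem_dc_additive (n_mem A a) (n_mem A b) (by rw [len_n_mul]; exact h) hx hy

theorem cell_right {w : W} {x b : G} (hx : x ∈ cell A w) (hb : b ∈ A.B) : x * b ∈ cell A w :=
  right_mem_dc hx hb

theorem cell_left {w : W} {x b : G} (hb : b ∈ A.B) (hx : x ∈ cell A w) : b * x ∈ cell A w :=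
  left_mem_dc (P := A.pair) hb hx

theorem exists_cell (g : G) : ∃ w, g ∈ cell A w := by
  obtain ⟨u, hu, h, hh, w, v, hv, rfl⟩ := A.exists_eq g
  exact ⟨w, cell_right A (cell_left A ⟨u, hu, h, hh, rfl⟩ (n_mem_cell A w)) (A.U_le_B (A.Uw_le w hv))⟩

theorem cell_nf {w : W} {g : G} (hg : g ∈ cell A w) :
    ∃ u ∈ A.U, ∃ h ∈ A.H, ∃ v ∈ A.Uw w, g = u * h * A.n w * v := by
  obtain ⟨u, hu, h, hh, w', v, hv, e⟩ := A.exists_eq g
  obtain rfl : w' = w := cell_inj A (g := g) (e ▸ cell_right A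
    (cell_left A ⟨u, hu, h, hh, rfl⟩ (n_mem_cell A w')) (A.U_le_B (A.Uw_le w' hv))) hg
  exact ⟨u, hu, h, hh, v, hv, e⟩

theorem nf_mem_cell {w : W} {u h v : G} (hu : u ∈ A.U) (hh : h ∈ A.H) (hv : v ∈ A.U) :
    u * h * A.n w * v ∈ cell A w :=
  cell_right A (cell_left A ⟨u, hu, h, hh, rfl⟩ (n_mem_cell A w)) (A.U_le_B hv)

theorem cell_inv {w : W} {g : G} (hg : g ∈ cell A w) : g⁻¹ ∈ cell A w⁻¹ := by
  obtain ⟨h, hh, e⟩ := A.n_inv w
  have h1 := inv_mem_dc hg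
  rwa [e, dc_mul_left _ (A.H_le_B hh)] at h1

section Finite

variable [Finite G]

theorem card_cell (w : W) :
    Nat.card (cell A w) = Nat.card A.U * Nat.card A.H * Nat.card (A.Uw w) := by
  rw [← Nat.card_prod, ← Nat.card_prod]
  refine (Nat.card_eq_of_bijective (fun q : (↥A.U × ↥A.H) × ↥(A.Uw w) =>
    (⟨(q.1.1 : G) * q.1.2 * A.n w * q.2, nf_mem_cell A q.1.1.2 q.1.2.2 (A.Uw_le w q.2.2)⟩ :
      ↥(cell A w))) ⟨?_, ?_⟩).symm
  · intro q q' e
    obtain ⟨-, h1, h2, h3⟩ := A.unique q.1.1.2 q'.1.1.2 q.1.2.2 q'.1.2.2 q.2.2 q'.2.2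
      (congrArg Subtype.val e)
    exact Prod.ext (Prod.ext (Subtype.ext h1) (Subtype.ext h2)) (Subtype.ext h3)
  · rintro ⟨g, hg⟩
    obtain ⟨u, hu, h, hh, v, hv, e⟩ := cell_nf A hg
    exact ⟨((⟨u, hu⟩, ⟨h, hh⟩), ⟨v, hv⟩), Subtype.ext e.symm⟩

theorem card_Uw_inv (w : W) : Nat.card (A.Uw w⁻¹) = Nat.card (A.Uw w) := by
  have h : Nat.card (cell A w⁻¹) = Nat.card (cell A w) :=
    Nat.card_eq_of_bijective (fun g => (⟨g.1⁻¹, by simpa using cell_inv A g.2⟩ : ↥(cell A w)))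
      ⟨fun a b e => Subtype.ext (inv_injective (congrArg Subtype.val e)),
        fun g => ⟨⟨g.1⁻¹, cell_inv A g.2⟩, Subtype.ext (inv_inv g.1)⟩⟩
  rw [card_cell, card_cell] at h
  exact Nat.eq_of_mul_eq_mul_left (Nat.mul_pos Nat.card_pos Nat.card_pos) h

/-- A step up strictly increases the cells. -/
theorem card_Uw_lt {s : W} (hs : s ∈ A.S) {x : W} (h : ell A (s * x) = ell A x + 1) :
    Nat.card (A.Uw x) < Nat.card (A.Uw (s * x)) := by
  have hadd : ell A (s * x) = ell A s + ell A x := by rw [ell_S A hs]; omega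
  let f : ↥(cell A x) → ↥(cell A (s * x)) := fun g =>
    ⟨A.n s * g.1, cell_mul A hadd (n_mem_cell A s) g.2⟩
  have hf : Function.Injective f := fun a b e =>
    Subtype.ext (mul_left_cancel (congrArg Subtype.val e))
  have hle := Nat.card_le_card_of_injective f hf
  have hpos : 0 < Nat.card A.U * Nat.card A.H := Nat.mul_pos Nat.card_pos Nat.card_pos
  rw [card_cell, card_cell] at hle
  refine lt_of_le_of_ne (Nat.le_of_mul_le_mul_left hle hpos) fun e => ?_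
  have hbij : Function.Bijective f :=
    (Nat.bijective_iff_injective_and_card f).2 ⟨hf, by rw [card_cell, card_cell, e]⟩
  obtain ⟨b, hb, hb'⟩ := exists_conj_mem_dc (nS_mem A hs)
  set c := A.n s * A.n s * b with hc
  have hcB : c ∈ A.B := mul_mem (A.pair.sq_mem _ (nS_mem A hs)) hb
  obtain ⟨⟨g, hg⟩, e1⟩ := hbij.2 ⟨c * (A.n s * A.n x),
    cell_left A hcB (cell_mul A hadd (n_mem_cell A s) (n_mem_cell A x))⟩
  have e2 : g = (A.n s * b * A.n s) * A.n x := by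
    refine mul_left_cancel ((congrArg Subtype.val e1).trans ?_)
    simp only [hc]
    group
  have h1 : g ∈ cell A (s * x) := e2 ▸ cell_mul A hadd hb' (n_mem_cell A x)
  exact S_ne_one A hs (mul_eq_right.1 (cell_inj A h1 hg))

theorem card_Uw_lt' {s : W} (hs : s ∈ A.S) {x : W} (h : ell A (x * s) = ell A x + 1) :
    Nat.card (A.Uw x) < Nat.card (A.Uw (x * s)) := by
  have h' : ell A (s * x⁻¹) = ell A x⁻¹ + 1 := by
    rw [ell_inv, ← ell_inv A (s * x⁻¹), mul_inv_rev, inv_inv, A.S_inv hs, h]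
  have := card_Uw_lt A hs h'
  rwa [card_Uw_inv, ← card_Uw_inv A (s * x⁻¹), mul_inv_rev, inv_inv, A.S_inv hs] at this

theorem one_lt_card_Uw {w : W} (hw : w ≠ 1) : 1 < Nat.card (A.Uw w) := by
  obtain ⟨s, hs, e⟩ := exists_left_descent A hw
  have h1 := card_Uw_lt A hs (x := s * w) (by
    rw [← mul_assoc, A.sq_S s hs, one_mul]; omega)
  rw [← mul_assoc, A.sq_S s hs, one_mul] at h1
  have : 0 < Nat.card (A.Uw (s * w)) := Nat.card_pos
  omega

theorem card_Uw_le (w : W) : Nat.card (A.Uw w) ≤ Nat.card A.U :=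
  Subgroup.card_le_of_le (A.Uw_le w)

/-- An element with the whole of `U` is longest. -/
theorem descent_of_full {x : W} (hx : A.Uw x = A.U) {s : W} (hs : s ∈ A.S) :
    ell A (x * s) + 1 = ell A x ∧ ell A (s * x) + 1 = ell A x := by
  refine ⟨(ell_cases' A hs x).resolve_left fun h => ?_, (ell_cases A hs x).resolve_left fun h => ?_⟩
  · have := card_Uw_lt' A hs h
    have := card_Uw_le A (x * s)
    rw [hx] at *
    omega
  · have := card_Uw_lt A hs h
    have := card_Uw_le A (s * x)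
    rw [hx] at *
    omega

theorem ell_full {x : W} (hx : A.Uw x = A.U) (y : W) : ell A x = ell A (x * y⁻¹) + ell A y := by
  have hA : AllDesc A.pair (A.n x) := by
    intro t ht
    obtain ⟨s, hs, rfl⟩ : t ∈ A.n '' A.S := ht
    rw [len_n_mul]
    have := (descent_of_full A hx hs).1
    show _ < ell A x
    omega
  have h := len_eq_add_of_allDesc (n_mem A x) hA (n_mem A y)
  have h2 : (A.n (x * y⁻¹))⁻¹ * (A.n x * (A.n y)⁻¹) ∈ A.pair.B := by
    obtain ⟨k, hk, e⟩ := A.n_inv y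
    obtain ⟨l, hl, e'⟩ := A.n_mul x y⁻¹
    rw [e, show A.n x * (k * A.n y⁻¹) = (A.n x * k * (A.n x)⁻¹) * (A.n x * A.n y⁻¹) by group, e',
      ← mul_assoc (A.n x * k * (A.n x)⁻¹), ← mul_assoc]
    exact A.H_le_B (A.n_conj_H' _ (mul_mem (A.n_conj_H x k hk) hl))
  rwa [len_congr h2] at h

theorem full_unique {x y : W} (hx : A.Uw x = A.U) (hy : A.Uw y = A.U) : x = y := by
  have h1 := ell_full A hx y
  have h2 := ell_full A hy x
  exact mul_inv_eq_one.1 (eq_one_of_ell A (by omega))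

/-- The longest element is its own inverse. -/
theorem full_inv {x : W} (hx : A.Uw x = A.U) : x⁻¹ = x := by
  refine full_unique A (Subgroup.eq_of_le_of_card_ge (A.Uw_le _) ?_) hx
  rw [card_Uw_inv, hx]

end Finite

/-! ### Elements of `B` of `p`-power order -/

theorem pow_uh {u h : G} (hu : u ∈ A.U) (hh : h ∈ A.H) :
    ∀ N : ℕ, ∃ u' ∈ A.U, (u * h) ^ N = u' * h ^ N
  | 0 => ⟨1, one_mem _, by simp⟩
  | N + 1 => by
    obtain ⟨u', hu', e⟩ := pow_uh hu hh N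
    exact ⟨u' * (h ^ N * u * (h ^ N)⁻¹), mul_mem hu' (A.H_conj_U _ (pow_mem hh N) u hu),
      by rw [pow_succ, e, pow_succ]; group⟩

variable {A} (hA : Hyp A p) [hp : Fact p.Prime]
include hA

theorem Hyp.mem_U_of_pElem {b : G} (hb : b ∈ A.B) {k : ℕ} (hk : b ^ p ^ k = 1) : b ∈ A.U := by
  obtain ⟨u, hu, h, hh, rfl⟩ := hb
  obtain ⟨u', hu', e⟩ := pow_uh A hu hh (p ^ k)
  rw [hk] at e
  have h1 := (A.unique (one_mem _) hu' (one_mem _) (pow_mem hh _) (one_mem (A.Uw 1))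
    (one_mem (A.Uw 1)) (show 1 * 1 * A.n 1 * 1 = u' * h ^ p ^ k * A.n 1 * 1 by
      rw [← e]; group)).2.2.1
  have h2 : orderOf h ∣ p ^ k := orderOf_dvd_of_pow_eq_one h1.symm
  have h3 : orderOf h ∣ Nat.card A.H := by
    have := orderOf_dvd_natCard (⟨h, hh⟩ : ↥A.H)
    rwa [Subgroup.orderOf_mk] at this
  have h4 : h = 1 := orderOf_eq_one_iff.1 (Nat.dvd_one.1
    ((Nat.Coprime.pow_left k (hp.out.coprime_iff_not_dvd.2 hA.pH)) ▸ Nat.dvd_gcd h2 h3))
  rwa [h4, mul_one]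

theorem Hyp.exists_pow {d : G} (hd : d ∈ A.U) : ∃ k : ℕ, d ^ p ^ k = 1 := by
  obtain ⟨k, hk⟩ := hA.pU ⟨d, hd⟩
  exact ⟨k, congrArg Subtype.val hk⟩

theorem Hyp.conj_mem_U {g d : G} (hd : d ∈ A.U) (hm : g * d * g⁻¹ ∈ A.B) : g * d * g⁻¹ ∈ A.U := by
  obtain ⟨k, hk⟩ := hA.exists_pow hd
  exact hA.mem_U_of_pElem hm (k := k) (by rw [conj_pow, hk, mul_one, mul_inv_cancel])

/-- `U` is a Sylow subgroup. -/
theorem Hyp.not_dvd_index [Finite G] [Finite W] : ¬ p ∣ A.U.index := by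
  have _ := Fintype.ofFinite W
  intro hd
  have h : A.U.index = Nat.card A.H * ∑ w, Nat.card (A.Uw w) := by
    refine Nat.eq_of_mul_eq_mul_left (Nat.card_pos (α := A.U)) ?_
    rw [Subgroup.card_mul_index, ← mul_assoc, A.toNormalForm.card_eq]
  rw [h] at hd
  rcases hp.out.dvd_mul.1 hd with h1 | h1
  · exact hA.pH h1
  · classical
    rw [← Finset.add_sum_erase _ _ (Finset.mem_univ (1 : W)), A.Uw_one, Subgroup.card_bot] at h1
    refine hp.out.not_dvd_one ((Nat.dvd_add_left (Finset.dvd_sum fun w hw => ?_)).1 h1)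
    have h2 := one_lt_card_Uw A (Finset.mem_erase.1 hw).1
    obtain ⟨b, hb⟩ := IsPGroup.iff_card.1 (hA.pU.to_le (A.Uw_le w))
    rw [hb] at h2 ⊢
    exact dvd_pow_self p fun e => by simp [e] at h2

/-- The radicals decrease along reduced products. -/
theorem Hyp.rad_le {a b : W} (h : ell A (a * b) = ell A a + ell A b) : rad A (a * b) ≤ rad A b := by
  induction hn : ell A b using Nat.strong_induction_on generalizing a b with
  | _ n ih =>
  subst hn
  intro d hd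
  by_cases hb : b = 1
  · subst hb
    exact (mem_rad A).2 ⟨hd.1, by rw [A.n_one]; simpa using hd.1⟩
  obtain ⟨s, hs, e⟩ := exists_right_descent A hb
  set b' := b * s with hb'
  have hbe : b = b' * s := by rw [hb', mul_assoc, A.sq_S s hs, mul_one]
  have h1 := ell_mul_le A a b'
  have h2 := ell_mul_le A (a * b') s
  have hab : a * b' * s = a * b := by rw [hbe, mul_assoc]
  rw [hab, ell_S A hs] at h2
  have h3 : ell A (a * b' * s) = ell A (a * b') + ell A s := by rw [hab, ell_S A hs]; omega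
  obtain ⟨k, hk, ek⟩ := A.n_mul (a * b') s
  rw [hab] at ek
  have hout : A.n (a * b') * (A.n s * d * (A.n s)⁻¹) * (A.n (a * b'))⁻¹ ∈ A.U := by
    rw [show A.n (a * b') * (A.n s * d * (A.n s)⁻¹) * (A.n (a * b'))⁻¹ =
      (A.n (a * b') * A.n s) * d * (A.n (a * b') * A.n s)⁻¹ by group, ek,
      show k * A.n (a * b) * d * (k * A.n (a * b))⁻¹ =
        k * (A.n (a * b) * d * (A.n (a * b))⁻¹) * k⁻¹ by group]
    exact A.H_conj_U k hk _ hd.2
  set g := A.n s * d * (A.n s)⁻¹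
  have hgB : g ∈ A.B := by
    rcases axiom_left (P := A.pair) (nS_mem A hs) (n_mem A s) (A.U_le_B hd.1) with hc | hc <;>
      have hg : g = A.n s * d * A.n s * (A.n s * A.n s)⁻¹ := by simp only [g]; group
    · rw [dc_of_mem_B (A.pair.sq_mem _ (nS_mem A hs)), mem_dc_one] at hc
      rw [hg]
      exact mul_mem hc (inv_mem (A.pair.sq_mem _ (nS_mem A hs)))
    · exfalso
      have hgc : g ∈ cell A s :=
        hg ▸ cell_right A hc (inv_mem (A.pair.sq_mem _ (nS_mem A hs)))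
      have h4 : A.n (a * b') * g ∈ cell A (a * b') := by
        rw [show A.n (a * b') * g = (A.n (a * b') * g * (A.n (a * b'))⁻¹) * A.n (a * b') by group]
        exact cell_left A (A.U_le_B hout) (n_mem_cell A _)
      exact S_ne_one A hs (mul_eq_left.1
        (cell_inj A (cell_mul A h3 (n_mem_cell A _) hgc) h4))
  have hgU : g ∈ A.U := hA.conj_mem_U hd.1 hgB
  have hin : g ∈ rad A b' := ih (ell A b') (by omega)
    (a := a) (b := b') (by rw [ell_S A hs] at h3; omega) rfl ((mem_rad A).2 ⟨hgU, hout⟩)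
  refine (mem_rad A).2 ⟨hd.1, ?_⟩
  obtain ⟨l, hl, el⟩ := A.n_mul b' s
  rw [← hbe] at el
  rw [show A.n b = l⁻¹ * (A.n b' * A.n s) by rw [el]; group,
    show l⁻¹ * (A.n b' * A.n s) * d * (l⁻¹ * (A.n b' * A.n s))⁻¹ =
      l⁻¹ * (A.n b' * g * (A.n b')⁻¹) * l⁻¹⁻¹ by simp only [g]; group]
  exact A.H_conj_U _ (inv_mem hl) _ hin.2

theorem Hyp.exists_rad_mul (w : W) {u : G} (hu : u ∈ A.U) :
    ∃ k ∈ rad A w, ∃ v ∈ A.Uw w, u = k * v := by
  obtain ⟨x, hx, h, hh, v, hv, e⟩ := cell_nf A (cell_right A (n_mem_cell A w) (A.U_le_B hu))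
  have e' : A.n w * (u * v⁻¹) * (A.n w)⁻¹ = x * h := by
    rw [show A.n w * (u * v⁻¹) * (A.n w)⁻¹ = A.n w * u * (v⁻¹ * (A.n w)⁻¹) by group, e]; group
  have hk : u * v⁻¹ ∈ A.U := mul_mem hu (inv_mem (A.Uw_le w hv))
  exact ⟨u * v⁻¹, (mem_rad A).2 ⟨hk, hA.conj_mem_U hk (e' ▸ ⟨x, hx, h, hh, rfl⟩)⟩, v, hv, by group⟩

theorem Hyp.card_rad [Finite G] (w : W) :
    Nat.card (rad A w) * Nat.card (A.Uw w) = Nat.card A.U := by
  rw [← Nat.card_prod]
  refine Nat.card_eq_of_bijective (fun q : ↥(rad A w) × ↥(A.Uw w) =>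
    (⟨(q.1 : G) * q.2, mul_mem q.1.2.1 (A.Uw_le w q.2.2)⟩ : ↥A.U)) ⟨?_, ?_⟩
  · rintro ⟨⟨k, hk⟩, ⟨v, hv⟩⟩ ⟨⟨k', hk'⟩, ⟨v', hv'⟩⟩ e
    have e0 : k * v = k' * v' := congrArg Subtype.val e
    obtain ⟨-, -, -, hvv⟩ := A.unique hk.2 hk'.2 (one_mem A.H) (one_mem A.H) hv hv'
      (show A.n w * k * (A.n w)⁻¹ * 1 * A.n w * v = A.n w * k' * (A.n w)⁻¹ * 1 * A.n w * v' by
        simp only [mul_one, inv_mul_cancel_right, mul_assoc, inv_mul_cancel_left, e0])
    subst hvv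
    obtain rfl := mul_right_cancel e0
    rfl
  · rintro ⟨u, hu⟩
    obtain ⟨k, hk, v, hv, e⟩ := hA.exists_rad_mul w hu
    exact ⟨(⟨k, hk⟩, ⟨v, hv⟩), Subtype.ext e.symm⟩

theorem Hyp.eq_full_of_rad [Finite G] {w : W} (h : rad A w = ⊥) : A.Uw w = A.U := by
  have h1 := hA.card_rad w
  rw [h, Subgroup.card_bot, one_mul] at h1
  exact Subgroup.eq_of_le_of_card_ge (A.Uw_le w) h1.ge

theorem Hyp.rad_full {w : W} (h : A.Uw w = A.U) : rad A w = ⊥ := by
  refine eq_bot_iff.2 fun u hu => Subgroup.mem_bot.2 ?_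
  exact (A.unique (one_mem _) hu.2 (one_mem _) (one_mem _) (h.symm ▸ hu.1) (one_mem _)
    (show 1 * 1 * A.n w * u = A.n w * u * (A.n w)⁻¹ * 1 * A.n w * 1 by group)).2.2.2

/-- The radical of a fundamental element is normalised by `B`. -/
theorem Hyp.rad_conj_B {s : W} (hs : s ∈ A.S) {b d : G} (hb : b ∈ A.B) (hd : d ∈ rad A s) :
    b * d * b⁻¹ ∈ rad A s := by
  obtain ⟨u, hu, h, hh, rfl⟩ := hb
  rw [show u * h * d * (u * h)⁻¹ = u * (h * d * h⁻¹) * u⁻¹ by
    simp only [mul_inv_rev, mul_assoc]]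
  refine hA.norm s hs u hu _ ((mem_rad A).2 ⟨A.H_conj_U h hh d hd.1, ?_⟩)
  rw [show A.n s * (h * d * h⁻¹) * (A.n s)⁻¹ =
    (A.n s * h * (A.n s)⁻¹) * (A.n s * d * (A.n s)⁻¹) * (A.n s * h * (A.n s)⁻¹)⁻¹ by group]
  exact A.H_conj_U _ (A.n_conj_H s h hh) _ hd.2

theorem Hyp.rad_conj_H (w : W) {h d : G} (hh : h ∈ A.H) (hd : d ∈ rad A w) : h * d * h⁻¹ ∈ rad A w := by
  refine (mem_rad A).2 ⟨A.H_conj_U h hh d hd.1, ?_⟩
  rw [show A.n w * (h * d * h⁻¹) * (A.n w)⁻¹ =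
    (A.n w * h * (A.n w)⁻¹) * (A.n w * d * (A.n w)⁻¹) * (A.n w * h * (A.n w)⁻¹)⁻¹ by group]
  exact A.H_conj_U _ (A.n_conj_H w h hh) _ hd.2

/-! ### Parabolic subgroups -/

theorem Hyp.n_mem_parabolic {J : Set W} {c : W} (hc : c ∈ Subgroup.closure J) :
    A.n c ∈ A.pair.parabolic (A.n '' J) := by
  have hH : A.H ≤ A.pair.parabolic (A.n '' J) := A.H_le_B.trans le_sup_left
  induction hc using Subgroup.closure_induction with
  | mem s hs => exact Subgroup.mem_sup_right (Subgroup.subset_closure ⟨s, hs, rfl⟩)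
  | one => rw [A.n_one]; exact one_mem _
  | mul a b _ _ ha hb =>
    obtain ⟨k, hk, e⟩ := A.n_mul a b
    rw [show A.n (a * b) = k⁻¹ * (A.n a * A.n b) by rw [e]; group]
    exact mul_mem (hH (inv_mem hk)) (mul_mem ha hb)
  | inv a _ ha =>
    obtain ⟨k, hk, e⟩ := A.n_inv a
    rw [show A.n a⁻¹ = k⁻¹ * (A.n a)⁻¹ by rw [e]; group]
    exact mul_mem (hH (inv_mem hk)) (inv_mem ha)

theorem Hyp.n_mem_sup {J : Set W} {c : W} (hc : c ∈ Subgroup.closure J) :
    A.n c ∈ Subgroup.closure (A.n '' J) ⊔ (A.pair.B ⊓ A.pair.N) := by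
  have hH : A.H ≤ Subgroup.closure (A.n '' J) ⊔ (A.pair.B ⊓ A.pair.N) :=
    A.B_inf_N.ge.trans le_sup_right
  induction hc using Subgroup.closure_induction with
  | mem s hs => exact Subgroup.mem_sup_left (Subgroup.subset_closure ⟨s, hs, rfl⟩)
  | one => rw [A.n_one]; exact one_mem _
  | mul a b _ _ ha hb =>
    obtain ⟨k, hk, e⟩ := A.n_mul a b
    rw [show A.n (a * b) = k⁻¹ * (A.n a * A.n b) by rw [e]; group]
    exact mul_mem (hH (inv_mem hk)) (mul_mem ha hb)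
  | inv a _ ha =>
    obtain ⟨k, hk, e⟩ := A.n_inv a
    rw [show A.n a⁻¹ = k⁻¹ * (A.n a)⁻¹ by rw [e]; group]
    exact mul_mem (hH (inv_mem hk)) (inv_mem ha)

omit hA hp

/-- The longest element of a parabolic subgroup of the Weyl group. -/
def IsTop (A : Tits.Ambient G W) (J : Set W) (c : W) : Prop :=
  c ∈ Subgroup.closure J ∧ c⁻¹ = c ∧
    ∀ x ∈ Subgroup.closure J, ell A c = ell A (c * x⁻¹) + ell A x

include hA hp

theorem Hyp.exists_isTop [Finite G] [Finite W] {J : Set W} (hJ : J ⊆ A.S) :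
    ∃ c, IsTop A J c := by
  obtain ⟨w₀, hw₀⟩ := hA.full
  obtain ⟨⟨y, hy⟩, hmin⟩ := Finite.exists_min (fun y : ↥(Subgroup.closure J) => ell A (w₀ * y.1))
  set m := w₀ * y
  have hfree : RFree A.pair (A.n '' J) (A.n m) := by
    rintro _ ⟨s, hs, rfl⟩
    rw [len_n_mul]
    have h1 := hmin ⟨y * s, mul_mem hy (Subgroup.subset_closure hs)⟩
    simp only [← mul_assoc] at h1
    have h2 := ell_cases' A (hJ hs) m
    change ell A m ≤ ell A (m * s) at h1
    show ell A m < _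
    omega
  have hadd : ∀ x ∈ Subgroup.closure J, ell A (m * x) = ell A m + ell A x := by
    intro x hx
    rw [← len_n_mul]
    exact len_add_of_RFree (Set.image_mono hJ) (n_mem A m) hfree (hA.n_mem_sup hx)
  have key : ∀ x ∈ Subgroup.closure J, ell A y⁻¹ = ell A (y⁻¹ * x⁻¹) + ell A x := by
    intro x hx
    have h1 := ell_full A hw₀ x
    have h2 := hadd _ (mul_mem (inv_mem hy) (inv_mem hx))
    have h3 := hadd _ (inv_mem hy)
    rw [← mul_assoc, show m * y⁻¹ = w₀ by simp [m]] at h2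
    rw [show m * y⁻¹ = w₀ by simp [m]] at h3
    omega
  refine ⟨y⁻¹, inv_mem hy, ?_, key⟩
  have h1 := key y hy
  rw [ell_inv] at h1
  rw [inv_inv]
  exact (mul_eq_one_iff_eq_inv.1 (by
    have := eq_one_of_ell A (w := y⁻¹ * y⁻¹) (by omega)
    simpa using congrArg (·⁻¹) this)).trans rfl

/-- The radical of a parabolic subgroup is normal in it. -/
theorem Hyp.rad_normal {J : Set W} (hJ : J ⊆ A.S) {c : W} (hc : IsTop A J c) {g : G}
    (hg : g ∈ A.pair.parabolic (A.n '' J)) {d : G} (hd : d ∈ rad A c) :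
    g * d * g⁻¹ ∈ rad A c := by
  obtain ⟨hcJ, hcc, hcl⟩ := hc
  have hle : ∀ x ∈ Subgroup.closure J, rad A c ≤ rad A x := fun x hx => by
    have := hA.rad_le (a := c * x⁻¹) (b := x) (by rw [inv_mul_cancel_right]; exact hcl x hx)
    rwa [inv_mul_cancel_right] at this
  let T : Set G := {g | ∃ b ∈ A.B, ∃ y, (∀ d ∈ rad A c, y * d * y⁻¹ ∈ rad A c) ∧ g = b * y}
  have key : ∀ s ∈ J, ∀ u ∈ A.U, A.n s * u ∈ T := by
    intro s hs u hu
    suffices H : ∃ x ∈ Subgroup.closure J, ∃ q,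
        q ∈ cell A c ∧ ∃ h ∈ A.H, q * (A.n s * u) = h * A.n x by
      obtain ⟨x, hx, q, hq, h, hh, e⟩ := H
      obtain ⟨u', hu', k, hk, v, hv, eq⟩ := cell_nf A hq
      refine ⟨v⁻¹, inv_mem (A.U_le_B (A.Uw_le c hv)), v * (A.n s * u), fun d hd => ?_, by group⟩
      have hin : A.n s * u * d * (A.n s * u)⁻¹ ∈ A.U := by
        have := ((mem_rad A).1 (hA.norm s (hJ hs) u hu d
          (hle s (Subgroup.subset_closure hs) hd))).2
        simpa [mul_assoc] using this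
      refine (mem_rad A).2 ⟨?_, ?_⟩
      · rw [show v * (A.n s * u) * d * (v * (A.n s * u))⁻¹ =
          v * (A.n s * u * d * (A.n s * u)⁻¹) * v⁻¹ by group]
        exact mul_mem (mul_mem (A.Uw_le c hv) hin) (inv_mem (A.Uw_le c hv))
      · have hq' : q * (A.n s * u) * d * (q * (A.n s * u))⁻¹ ∈ A.U := by
          rw [e, show h * A.n x * d * (h * A.n x)⁻¹ = h * (A.n x * d * (A.n x)⁻¹) * h⁻¹ by group]
          exact A.H_conj_U h hh _ (hle x hx hd).2
        rw [eq] at hq'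
        have := A.H_conj_U k⁻¹ (inv_mem hk) _ (mul_mem (mul_mem (inv_mem hu') hq') hu')
        simpa [mul_assoc] using this
    have hsS := hJ hs
    have hsJ : s ∈ Subgroup.closure J := Subgroup.subset_closure hs
    set q₀ := A.n c * u⁻¹ * (A.n s)⁻¹ with hq₀
    have e₀ : q₀ = A.n c * u⁻¹ * A.n s * (A.n s * A.n s)⁻¹ := by rw [hq₀]; group
    have hsq : (A.n s * A.n s)⁻¹ ∈ A.B := inv_mem (A.pair.sq_mem _ (nS_mem A hsS))
    rcases axiom_right (P := A.pair) (nS_mem A hsS) (n_mem A c) (inv_mem (A.U_le_B hu)) with h | h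
    · have hq : q₀ ∈ cell A (c * s) := by
        rw [e₀, ← dc_n_mul]; exact right_mem_dc h hsq
      have hcs : c * s ∈ Subgroup.closure J := mul_mem hcJ hsJ
      have hl : ell A (c * (c * s)⁻¹ * (c * s)) = ell A (c * (c * s)⁻¹) + ell A (c * s) := by
        rw [inv_mul_cancel_right]; exact hcl _ hcs
      obtain ⟨k, hk, ek⟩ := A.n_mul (c * (c * s)⁻¹) c
      refine ⟨c * (c * s)⁻¹ * c, mul_mem (mul_mem hcJ (inv_mem hcs)) hcJ,
        A.n (c * (c * s)⁻¹) * q₀, ?_, k, hk, ?_⟩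
      · have := cell_mul A hl (n_mem_cell A _) hq
        rwa [inv_mul_cancel_right] at this
      · rw [← ek, hq₀]; group
    · exact ⟨c, hcJ, q₀, e₀ ▸ right_mem_dc h hsq, 1, one_mem _, by rw [hq₀]; group⟩
  have hTall : ∀ g' ∈ A.pair.parabolic (A.n '' J), g' ∈ T := by
    intro g hg
    have hmul : ∀ s ∈ J, ∀ t ∈ T, A.n s * t ∈ T := by
      rintro s hs _ ⟨b, ⟨u, hu, h, hh, rfl⟩, y, hy, rfl⟩
      obtain ⟨b', hb', y', hy', e⟩ := key s hs u hu
      refine ⟨b', hb', y' * (h * y), fun d hd => ?_, by rw [← mul_assoc b', ← e]; group⟩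
      rw [show y' * (h * y) * d * (y' * (h * y))⁻¹ = y' * (h * (y * d * y⁻¹) * h⁻¹) * y'⁻¹ by group]
      exact hy' _ (hA.rad_conj_H c hh (hy d hd))
    unfold Cfsg.BNPair.parabolic at hg
    rw [← Subgroup.closure_eq A.pair.B, ← Subgroup.closure_union] at hg
    induction hg using Subgroup.closure_induction_left with
    | one => exact ⟨1, one_mem _, 1, fun d hd => by simpa using hd, by simp⟩
    | mul_left x hx y _ ih =>
      rcases hx with hx | ⟨s, hs, rfl⟩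
      · obtain ⟨b, hb, z, hz, rfl⟩ := ih
        exact ⟨x * b, mul_mem hx hb, z, hz, by group⟩
      · exact hmul s hs y ih
    | inv_mul_cancel x hx y _ ih =>
      rcases hx with hx | ⟨s, hs, rfl⟩
      · obtain ⟨b, hb, z, hz, rfl⟩ := ih
        exact ⟨x⁻¹ * b, mul_mem (inv_mem hx) hb, z, hz, by group⟩
      · obtain ⟨b, hb, z, hz, e⟩ := ih
        rw [show (A.n s)⁻¹ * y = A.n s * ((A.n s * A.n s)⁻¹ * y) by group]
        exact hmul s hs _ ⟨(A.n s * A.n s)⁻¹ * b,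
          mul_mem (inv_mem (A.pair.sq_mem _ (nS_mem A (hJ hs)))) hb, z, hz, by rw [e]; group⟩
  -- everything is moved into `U`
  have hU : ∀ g' ∈ A.pair.parabolic (A.n '' J), ∀ d ∈ rad A c, g' * d * g'⁻¹ ∈ A.U := by
    intro g' hg' d hd
    obtain ⟨b, ⟨u, hu, h, hh, rfl⟩, y, hy, rfl⟩ := hTall g' hg'
    rw [show u * h * y * d * (u * h * y)⁻¹ = u * (h * (y * d * y⁻¹) * h⁻¹) * u⁻¹ by group]
    exact mul_mem (mul_mem hu (A.H_conj_U h hh _ (hy d hd).1)) (inv_mem hu)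
  refine (mem_rad A).2 ⟨hU g hg d hd, ?_⟩
  rw [show A.n c * (g * d * g⁻¹) * (A.n c)⁻¹ = (A.n c * g) * d * (A.n c * g)⁻¹ by group]
  exact hU _ (mul_mem (hA.n_mem_parabolic hcJ) hg) d hd

end Cfsg.Agent.H13.Split
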